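import Mathlib.FieldTheory.PurelyInseparable.Basic
import Mathlib.FieldTheory.SeparableClosure
import Mathlib.FieldTheory.IntermediateField.Adjoin.Basic
import Mathlib.NumberTheory.RamificationInertia.Basic
import Mathlib.RingTheory.DedekindDomain.IntegralClosure
import Mathlib.RingTheory.DedekindDomain.AdicValuation
import Mathlib.RingTheory.DiscreteValuationRing.Basic
import Mathlib.RingTheory.Polynomial.Eisenstein.Basic
import Mathlib.RingTheory.Polynomial.GaussLemma
import Mathlib.RingTheory.AdjoinRoot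
import Mathlib.GroupTheory.SpecificGroups.Cyclic
import Mathlib.Algebra.Group.Subgroup.ZPowers.Basic

/-!
# Degrees of points on `x₀^d = Σ π^i xᵢ^d`
-/

set_option autoImplicit false
set_option linter.deprecated false
universe u

open WithZero IsDedekindDomain

namespace IndexLib

/-- The arithmetic: two terms of equal valuation give the divisibility. -/
theorem exists_dvd_of_valuations_eq {d N M i j : ℕ} (hd : 1 ≤ d) (hi : i ≤ N) (hj : j ≤ N) (hij : i ≠ j)
    (a b : ℤ) (h : (d : ℤ) * a - (M : ℤ) * i = (d : ℤ) * b - (M : ℤ) * j) :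
    ∃ δ, (1 ≤ δ ∧ δ ≤ N ∧ δ ∣ d) ∧ d / δ ∣ M := by
  set m := ((i : ℤ) - j).natAbs with hm
  have hm0 : 0 < m := by omega
  have hdm : d ∣ M * m := by
    have h1 : (d : ℤ) ∣ (M : ℤ) * ((i : ℤ) - j) := ⟨a - b, by linarith⟩
    have h2 := Int.natAbs_dvd_natAbs.2 h1
    rwa [Int.natAbs_mul, Int.natAbs_natCast, Int.natAbs_natCast, ← hm] at h2
  refine ⟨Nat.gcd d m, ⟨Nat.gcd_pos_of_pos_left m hd, (Nat.le_of_dvd hm0 (Nat.gcd_dvd_right d m)).trans (by omega),
    Nat.gcd_dvd_left d m⟩, ?_⟩
  have hg : 0 < Nat.gcd d m := Nat.gcd_pos_of_pos_left m hd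
  have h3 : d / Nat.gcd d m ∣ M * (m / Nat.gcd d m) := by
    rw [← Nat.mul_div_assoc M (Nat.gcd_dvd_right d m)]
    exact Nat.div_dvd_div (Nat.gcd_dvd_left d m) hdm
  exact (Nat.coprime_div_gcd_div_gcd hg).dvd_of_dvd_mul_right h3

/-- Two terms of a vanishing sum have the same valuation. -/
theorem exists_eq_valuation {F : Type*} [Field F] (w : Valuation F ℤᵐ⁰) {ι : Type*} [Fintype ι] (t : ι → F)
    (h0 : ∑ i, t i = 0) (hne : ∃ i, t i ≠ 0) :
    ∃ i j, i ≠ j ∧ t i ≠ 0 ∧ t j ≠ 0 ∧ w (t i) = w (t j) := by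
  classical
  obtain ⟨i0, hi0⟩ := hne
  obtain ⟨j, -, hj⟩ := Finset.exists_max_image Finset.univ (fun i => w (t i)) ⟨i0, Finset.mem_univ _⟩
  have hjne : t j ≠ 0 := fun h => hi0 (w.zero_iff.1 (le_antisymm (by simpa [h] using hj i0 (Finset.mem_univ _)) zero_le))
  by_contra! hcon
  have hlt : ∀ i ∈ Finset.univ \ {j}, w (t i) < w (t j) := by
    intro i hi
    rw [Finset.mem_sdiff, Finset.mem_singleton] at hi
    refine lt_of_le_of_ne (hj i (Finset.mem_univ _)) fun he => ?_
    by_cases hti : t i = 0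
    · rw [hti, map_zero] at he; exact (w.ne_zero_iff.2 hjne) he.symm
    · exact hcon i j hi.2 hti hjne he
  have := w.map_sum_eq_of_lt (Finset.mem_univ j) hlt
  rw [h0, map_zero] at this
  exact w.ne_zero_iff.2 hjne this.symm

variable (R : Type u) [CommRing R] [IsDomain R] [IsDiscreteValuationRing R] (K : Type u) [Field K] [Algebra R K]
  [IsFractionRing R K] (ϖ : R)

theorem exists_pow_mem {K : Type u} [Field K] {L : Type u} [Field L] [Algebra K L] [FiniteDimensional K L] :
    ∃ Q : ℕ, 0 < Q ∧ Q ∣ Module.finrank (separableClosure K L) L ∧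
      (∀ a b : L, (a + b) ^ Q = a ^ Q + b ^ Q) ∧ ∀ x : L, x ^ Q ∈ separableClosure K L := by
  obtain ⟨q, _⟩ := ExpChar.exists K
  haveI : ExpChar L q := expChar_of_injective_algebraMap (algebraMap K L).injective q
  haveI : ExpChar (separableClosure K L) q := expChar_of_injective_algebraMap (algebraMap K _).injective q
  haveI := separableClosure.isPurelyInseparable K L
  have hpos : 0 < Module.finrank (separableClosure K L) L := Module.finrank_pos
  have hx : ∀ x : L, ∃ n : ℕ, q ^ n ∣ Module.finrank (separableClosure K L) L ∧ x ^ q ^ n ∈ separableClosure K L := by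
    intro x
    obtain ⟨n, y, hy⟩ := IsPurelyInseparable.minpoly_eq_X_pow_sub_C (separableClosure K L) q x
    refine ⟨n, ?_, ?_⟩
    · have h1 := minpoly.degree_dvd (Algebra.IsIntegral.isIntegral (R := separableClosure K L) x)
      rwa [hy, Polynomial.natDegree_X_pow_sub_C] at h1
    · have h1 := minpoly.aeval (separableClosure K L) x
      rw [hy, map_sub, map_pow, Polynomial.aeval_X, Polynomial.aeval_C, sub_eq_zero] at h1
      rw [h1]; exact y.2
  cases (inferInstance : ExpChar K q) with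
  | zero =>
    refine ⟨1, one_pos, one_dvd _, fun a b => by simp, fun x => ?_⟩
    obtain ⟨n, -, hn⟩ := hx x
    simpa using hn
  | prime hq =>
    refine ⟨q ^ (Module.finrank (separableClosure K L) L).factorization q, pow_pos hq.pos _,
      Nat.ordProj_dvd _ _, fun a b => add_pow_expChar_pow a b _ _, fun x => ?_⟩
    obtain ⟨n, hn, hn'⟩ := hx x
    have hle : n ≤ (Module.finrank (separableClosure K L) L).factorization q :=
      (hq.pow_dvd_iff_le_factorization hpos.ne').1 hn
    rw [← Nat.add_sub_cancel' hle, pow_add, pow_mul]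
    exact pow_mem hn' _

variable {R}

theorem dvd_finrank (hϖ : Irreducible ϖ) (d N : ℕ) (hd : 1 ≤ d) {I : ℕ}
    (hI : ∀ δ, 1 ≤ δ → δ ≤ N → δ ∣ d → I ∣ d / δ)
    (L : Type u) [Field L] [Algebra K L] [FiniteDimensional K L] (x : Fin (N + 1) → L) (hx : x ≠ 0)
    (heq : x 0 ^ d = ∑ i : Fin N, algebraMap K L (algebraMap R K (ϖ ^ ((i : ℕ) + 1))) * x i.succ ^ d) :
    I ∣ Module.finrank K L := by
  classical
  obtain ⟨Q, hQ, hQdvd, hQadd, hQmem⟩ := exists_pow_mem (K := K) (L := L)
  set Ls := separableClosure K L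
  let y : Fin (N + 1) → Ls := fun i => ⟨x i ^ Q, hQmem _⟩
  have hy : y ≠ 0 := by
    obtain ⟨i, hi⟩ := Function.ne_iff.1 hx
    exact Function.ne_iff.2 ⟨i, fun h => hi (pow_eq_zero_iff hQ.ne' |>.1 (congrArg Subtype.val h))⟩
  let φ : L →+ L := { toFun := fun a => a ^ Q, map_zero' := zero_pow hQ.ne', map_add' := hQadd }
  let c : Ls := algebraMap K Ls (algebraMap R K ϖ) ^ Q
  let t : Fin (N + 1) → Ls := Fin.cases (- y 0 ^ d) (fun i => c ^ ((i : ℕ) + 1) * y i.succ ^ d)
  have ht0 : ∑ i, t i = 0 := by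
    rw [Fin.sum_univ_succ]
    simp only [t, Fin.cases_zero, Fin.cases_succ]
    apply Subtype.ext
    simp only [IntermediateField.coe_add, IntermediateField.coe_neg, IntermediateField.coe_sum,
      IntermediateField.coe_mul, IntermediateField.coe_pow, y, c, IntermediateField.coe_zero]
    rw [← pow_mul, mul_comm Q d, pow_mul, heq,
      show (∑ i : Fin N, algebraMap K L (algebraMap R K (ϖ ^ ((i : ℕ) + 1))) * x i.succ ^ d) ^ Q = φ _ from rfl, map_sum,
      neg_add_eq_zero]
    refine Finset.sum_congr rfl fun i _ => ?_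
    show (algebraMap K L (algebraMap R K (ϖ ^ ((i : ℕ) + 1))) * x i.succ ^ d) ^ Q = _
    rw [mul_pow, map_pow, map_pow, ← pow_mul, ← pow_mul, ← pow_mul, ← pow_mul, mul_comm Q d, mul_comm Q ((i : ℕ) + 1)]
    rfl
  letI : Algebra R Ls := ((algebraMap K Ls).comp (algebraMap R K)).toAlgebra
  haveI : IsScalarTower R K Ls := IsScalarTower.of_algebraMap_eq' rfl
  haveI : Algebra.IsSeparable K Ls := separableClosure.isSeparable K L
  let O := integralClosure R Ls
  haveI : IsDedekindDomain O := IsIntegralClosure.isDedekindDomain R K Ls O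
  haveI : Module.Finite R O := IsIntegralClosure.finite R K Ls O
  haveI : IsFractionRing O Ls := IsIntegralClosure.isFractionRing_of_finite_extension R K Ls O
  have hinj : Function.Injective (algebraMap R O) := fun a b hab => by
    have := congrArg (algebraMap O Ls) hab
    rw [← IsScalarTower.algebraMap_apply, ← IsScalarTower.algebraMap_apply] at this
    exact IsFractionRing.injective R K ((algebraMap K Ls).injective this)
  haveI : FaithfulSMul R O := (faithfulSMul_iff_algebraMap_injective R O).2 hinj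
  set p := IsLocalRing.maximalIdeal R with hp
  have hpϖ : p = Ideal.span {ϖ} := (IsDiscreteValuationRing.irreducible_iff_uniformizer ϖ).1 hϖ
  have hp0 : p ≠ ⊥ := by rw [hpϖ, Ne, Ideal.span_singleton_eq_bot]; exact hϖ.ne_zero
  have hsum := Ideal.sum_ramification_inertia (R := R) (S := O) K Ls (p := p) hp0
  rw [← Module.finrank_mul_finrank K Ls L, ← hsum, Finset.sum_mul]
  refine Finset.dvd_sum fun P hP => ?_
  rw [IsDedekindDomain.mem_primesOverFinset_iff hp0] at hP
  haveI := hP.1
  haveI := hP.2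
  have hP0 : P ≠ ⊥ := Ideal.ne_bot_of_liesOver_of_ne_bot hp0 P
  let v : HeightOneSpectrum O := ⟨P, hP.1, hP0⟩
  have hϖO : algebraMap R O ϖ ≠ 0 := (map_ne_zero_iff _ hinj).2 hϖ.ne_zero
  set e := multiplicity P (Ideal.span {algebraMap R O ϖ}) with he
  have hfm : FiniteMultiplicity P (Ideal.span {algebraMap R O ϖ}) :=
    FiniteMultiplicity.of_prime_left v.prime (by simpa using hϖO)
  have hmap : p.map (algebraMap R O) = Ideal.span {algebraMap R O ϖ} := by
    rw [hpϖ, Ideal.map_span, Set.image_singleton]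
  have hram : Ideal.ramificationIdx' p P = e := by
    refine Ideal.ramificationIdx'_spec ?_ ?_
    · rw [hmap, ← Ideal.dvd_iff_le]; exact pow_multiplicity_dvd _ _
    · rw [hmap, ← Ideal.dvd_iff_le]; exact hfm.not_pow_dvd_of_multiplicity_lt (Nat.lt_succ_self _)
  set w := v.valuation Ls with hw
  have hwc : w c = WithZero.exp (-((e * Q : ℕ) : ℤ)) := by
    show w (algebraMap K Ls (algebraMap R K ϖ) ^ Q) = _
    rw [← IsScalarTower.algebraMap_apply, IsScalarTower.algebraMap_apply R O Ls, map_pow, hw]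
    erw [v.valuation_of_algebraMap]
    rw [v.intValuation_eq_exp_neg_multiplicity hϖO, ← WithZero.exp_nsmul]
    congr 1
    rw [nsmul_eq_mul]; push_cast; ring
  have hterm : ∀ i : Fin (N + 1), w (t i) = w c ^ (i : ℕ) * w (y i) ^ d := by
    refine Fin.cases ?_ fun i => ?_
    · simp only [t, Fin.cases_zero, Valuation.map_neg, map_pow, Fin.val_zero, pow_zero, one_mul]
    · simp only [t, Fin.cases_succ, map_mul, map_pow, Fin.val_succ]
  have htne : ∀ i, t i ≠ 0 → y i ≠ 0 := by
    intro i hi h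
    apply hi
    rw [← w.zero_iff, hterm, h, map_zero, zero_pow (by omega), mul_zero]
  have hc0 : c ≠ 0 := pow_ne_zero _ (by
    rw [map_ne_zero, map_ne_zero_iff _ (IsFractionRing.injective R K)]; exact hϖ.ne_zero)
  obtain ⟨i, hi⟩ := Function.ne_iff.1 hy
  have hti : t i ≠ 0 := by
    refine w.ne_zero_iff.1 ?_
    rw [hterm]
    exact mul_ne_zero (pow_ne_zero _ (w.ne_zero_iff.2 hc0)) (pow_ne_zero _ (w.ne_zero_iff.2 hi))
  obtain ⟨i, j, hij, hi, hj, hw2⟩ := exists_eq_valuation w t ht0 ⟨i, hti⟩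
  have hval : ∀ i, t i ≠ 0 → w (t i) = WithZero.exp ((d : ℤ) * WithZero.log (w (y i)) - ((e * Q : ℕ) : ℤ) * (i : ℕ)) := by
    intro i hi
    rw [hterm, hwc, ← WithZero.exp_nsmul]
    conv_lhs => rw [← WithZero.exp_log (w.ne_zero_iff.2 (htne i hi)), ← WithZero.exp_nsmul, ← WithZero.exp_add]
    congr 1
    simp only [nsmul_eq_mul]; ring
  rw [hval i hi, hval j hj, WithZero.exp_inj] at hw2
  obtain ⟨δ, ⟨h1, h2, h3⟩, h4⟩ := exists_dvd_of_valuations_eq hd (Nat.le_of_lt_succ i.2) (Nat.le_of_lt_succ j.2)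
    (fun h => hij (Fin.ext h)) _ _ hw2
  refine (hI δ h1 h2 h3).trans (h4.trans ?_)
  rw [hram, mul_right_comm]
  exact Dvd.dvd.mul_right (Nat.mul_dvd_mul_left e hQdvd) _

theorem exists_solution (hϖ : Irreducible ϖ) (d N : ℕ) (hd : 1 ≤ d) (δ : ℕ) (h1 : 1 ≤ δ) (h2 : δ ≤ N) (h3 : δ ∣ d) :
    ∃ (L : Type u) (_ : Field L) (_ : Algebra K L), FiniteDimensional K L ∧ Module.finrank K L = d / δ ∧
      ∃ x : Fin (N + 1) → L, x ≠ 0 ∧
        x 0 ^ d = ∑ i : Fin N, algebraMap K L (algebraMap R K (ϖ ^ ((i : ℕ) + 1))) * x i.succ ^ d := by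
  classical
  set m := d / δ with hm
  have hmpos : 0 < m := Nat.div_pos (Nat.le_of_dvd hd h3) h1
  let g : Polynomial R := Polynomial.X ^ m - Polynomial.C ϖ
  have hmon : g.Monic := Polynomial.monic_X_pow_sub_C ϖ hmpos.ne'
  have hpϖ : IsLocalRing.maximalIdeal R = Ideal.span {ϖ} := (IsDiscreteValuationRing.irreducible_iff_uniformizer ϖ).1 hϖ
  have hdeg : g.natDegree = m := Polynomial.natDegree_X_pow_sub_C
  have heis : g.IsEisensteinAt (Ideal.span {ϖ}) := by
    refine ⟨?_, fun {i} hi => ?_, ?_⟩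
    · rw [hmon.leadingCoeff, ← hpϖ]
      exact (IsLocalRing.maximalIdeal R).one_notMem
    · rw [hdeg] at hi
      simp only [g, Polynomial.coeff_sub, Polynomial.coeff_X_pow, if_neg hi.ne, zero_sub, Polynomial.coeff_C]
      split_ifs
      · exact neg_mem (Ideal.mem_span_singleton_self ϖ)
      · simp
    · simp only [g, Polynomial.coeff_sub, Polynomial.coeff_X_pow, if_neg hmpos.ne, zero_sub, Polynomial.coeff_C, if_pos,
        neg_mem_iff, Ideal.span_singleton_pow, Ideal.mem_span_singleton]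
      intro hdvd
      rw [sq] at hdvd
      obtain ⟨r, hr⟩ := hdvd
      have : ϖ * (ϖ * r) = ϖ * 1 := by rw [mul_one, ← mul_assoc, ← hr]
      exact hϖ.not_isUnit (IsUnit.of_mul_eq_one r (mul_left_cancel₀ hϖ.ne_zero this))
  have hirr : Irreducible g := heis.irreducible (hpϖ ▸ (IsLocalRing.maximalIdeal.isMaximal R).isPrime)
    hmon.isPrimitive (by rw [hdeg]; exact hmpos)
  have hirrK : Irreducible (g.map (algebraMap R K)) :=
    (hmon.irreducible_iff_irreducible_map_fraction_map).1 hirr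
  haveI := Fact.mk hirrK
  have hdegK : (g.map (algebraMap R K)).natDegree = m := by rw [hmon.natDegree_map, hdeg]
  let pb := AdjoinRoot.powerBasis hirrK.ne_zero
  refine ⟨AdjoinRoot (g.map (algebraMap R K)), inferInstance, inferInstance, pb.finite,
    pb.finrank.trans (by rw [AdjoinRoot.powerBasis_dim, hdegK]),
    Fin.cons (AdjoinRoot.root _) (fun i => if (i : ℕ) + 1 = δ then 1 else 0), ?_, ?_⟩
  · refine Function.ne_iff.2 ⟨(⟨δ - 1, by omega⟩ : Fin N).succ, ?_⟩
    rw [Fin.cons_succ, if_pos (Nat.sub_add_cancel h1)]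
    exact one_ne_zero
  · rw [Fin.cons_zero, Finset.sum_eq_single (⟨δ - 1, by omega⟩ : Fin N)]
    · rw [Fin.cons_succ, if_pos (Nat.sub_add_cancel h1), one_pow, mul_one]
      simp only [Nat.sub_add_cancel h1]
      have hroot := AdjoinRoot.eval₂_root (g.map (algebraMap R K))
      simp only [g, Polynomial.map_sub, Polynomial.map_pow, Polynomial.map_X, Polynomial.map_C, Polynomial.eval₂_sub,
        Polynomial.eval₂_pow, Polynomial.eval₂_X, Polynomial.eval₂_C, sub_eq_zero] at hroot
      rw [← Nat.div_mul_cancel h3, ← hm, pow_mul]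
      simp only [g, Polynomial.map_sub, Polynomial.map_pow, Polynomial.map_X, Polynomial.map_C]
      rw [hroot, map_pow, map_pow]
      rfl
    · intro b _ hb
      rw [Fin.cons_succ, if_neg, zero_pow (by omega), mul_zero]
      exact fun h => hb (Fin.ext (by simp; omega))
    · simp

end IndexLib
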